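import Groth.Agent.L16.DevissageMore
import Groth.Agent.L16.SupportSplit
import Groth.Agent.L16.CohLinear
import Groth.Agent.L17.AffinePush
import Groth.Agent.L17.Approx.Extend
import Groth.Agent.L05.PtSeq.DomData
import Groth.Agent.L16.CohGab.Open
import Groth.Agent.S8127
import Groth.Agent.L26.Pic0.Basic
import Groth.Agent.L03.Euler.Basic

/-!
# Cohomology in high degree only depends on the complement of a small closed subscheme
-/

set_option autoImplicit false
set_option backward.isDefEq.respectTransparency false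
set_option backward.isDefEq.respectTransparency.types false
set_option linter.style.haveILetI false

universe u

open CategoryTheory CategoryTheory.Limits AlgebraicGeometry TopologicalSpace

noncomputable section

namespace Groth.L16.CdSupport

open Groth.L16.Devissage

variable {X : Scheme.{u}}

/-- A nonzero ideal on an integral scheme is nonzero at the generic point. -/
theorem genericPoint_mem_support {Z : Scheme.{u}} [IsIntegral Z] {I : Z.Modules} [Coh.IsQCoh I]
    (ι : I ⟶ Coh.structureModule Z) [Mono ι] (h : ¬ IsZero I) : genericPoint Z ∈ CohB1.support I := by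
  intro hs
  refine h ((IsZero.iff_id_eq_zero I).2 (Groth.L20.ResDescent.eq_zero_of_affine _ fun x => ?_))
  obtain ⟨W, hW, hxW, -⟩ := exists_isAffineOpen_mem_and_subset (x := x) (U := ⊤) trivial
  refine ⟨W, hW, hxW, fun s => ?_⟩
  have hη : genericPoint Z ∈ W :=
    (genericPoint_spec Z).mem_open_set_iff W.2 |>.2 ⟨x, by simpa using hxW⟩
  haveI : Subsingleton (I.presheaf.stalk (genericPoint Z)) := hs
  have h0 : (Coh.structureModule Z).presheaf.germ W _ hη (ι.app W s) = 0 := by
    rw [← DerSch.stalkFunctor_map_germ (genericPoint Z) ι W hη s,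
      Subsingleton.elim (I.presheaf.germ W _ hη s) 0]
    exact map_zero _
  obtain ⟨W', hW', i₁, i₂, he⟩ := TopCat.Presheaf.germ_eq (Coh.structureModule Z).presheaf _ hη hη
    (ι.app W s) 0 (h0.trans (map_zero _).symm)
  have hz : Z.presheaf.map i₁.op (show Γ(Z, W) from ι.app W s) = 0 := he.trans (map_zero _)
  have h1 : ι.app W s = 0 := germ_injective_of_isIntegral (X := Z) (genericPoint Z) hη (by
    refine Eq.trans ?_ (map_zero (Z.presheaf.germ W (genericPoint Z) hη).hom).symm
    exact (TopCat.Presheaf.germ_res_apply Z.presheaf i₁ _ hW' (show Γ(Z, W) from ι.app W s)).symm.trans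
      ((congrArg (Z.presheaf.germ W' (genericPoint Z) hW') hz).trans (map_zero _)))
  exact Groth.L16.Acc.app_injective ι W (h1.trans (map_zero _).symm)

variable [AlgebraicGeometry.IsNoetherian X] {Z : Scheme.{u}} (ι₀ : Z ⟶ X) [IsClosedImmersion ι₀] (k : ℕ)
  (hcd : ∀ G : Z.Modules, Coh.IsQCoh G → ∀ i : ℕ, k + 1 ≤ i → Subsingleton (Coh.HH Z G i))

include hcd in
theorem subsingleton_of_filt {M : X.Modules} (h : Filt M) :
    CohB1.support M ⊆ Set.range ι₀ → ∀ p, k + 1 ≤ p → Subsingleton (Coh.HH X M p) := by
  induction h with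
  | zero M h0 =>
    intro _ p _
    exact Groth.L03.Euler.subsingleton_HH_of_isZero h0 p
  | step F M a W i I ι hF hM hi hW ha hι hI hI0 he ih =>
    obtain ⟨e⟩ := he
    intro hs p hp
    have hS : (ShortComplex.mk a (cokernel.π a) (cokernel.condition a)).ShortExact :=
      { exact := ShortComplex.exact_cokernel a }
    obtain ⟨h1, h3⟩ := support_union hS
    haveI := ih (h1.trans hs) p hp
    -- the piece
    have hη : i (genericPoint W) ∈ CohB1.support ((Coh.push i).obj I) := fun hsub =>
      genericPoint_mem_support ι hI0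
        (@Function.Surjective.subsingleton _ _ _ hsub (Groth.L17.ClosedPush.c₀_bijective i I (genericPoint W)).2)
    have hηZ : i (genericPoint W) ∈ Set.range ι₀ := by
      rw [← Groth.L21.Mod.support_congr e] at hη
      exact hs (h3 hη)
    have hr : Set.range i ⊆ Set.range ι₀ := by
      have hgen := (genericPoint_spec W).image i.continuous
      rw [Set.image_univ, i.isClosedEmbedding.isClosed_range.closure_eq] at hgen
      rw [← hgen.def]
      exact ι₀.isClosedEmbedding.isClosed_range.closure_subset_iff.2 (Set.singleton_subset_iff.2 hηZ)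
    obtain ⟨l, hl⟩ := Groth.L05.PtSeq.exists_lift_closed ι₀ i hr
    haveI : IsClosedImmersion (l ≫ ι₀) := hl ▸ hi
    haveI : IsClosedImmersion l := IsClosedImmersion.of_comp l ι₀
    haveI : Coh.IsQCoh ((Coh.push l).obj I) := Groth.L16.QcqsPush.isQCoh_push I l
    haveI := hcd ((Coh.push l).obj I) ‹_› p hp
    obtain ⟨e₁⟩ := Groth.L17.nonempty_HH_push_of_isClosedImmersion i I p
    obtain ⟨e₂⟩ := Groth.L17.nonempty_HH_push_of_isClosedImmersion l I p
    haveI : Subsingleton (Coh.HH W I p) := e₂.toEquiv.subsingleton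
    haveI : Subsingleton (Coh.HH X ((Coh.push i).obj I) p) := e₁.symm.toEquiv.subsingleton
    haveI : Subsingleton (Coh.HH X (cokernel a) p) :=
      Groth.Agent.Pic0.subsingleton_HH_congr e.symm p inferInstance
    refine subsingleton_of_forall_eq 0 fun y => ?_
    obtain ⟨z, hz⟩ := (Groth.L16.CohLinear.exact_hmap_hmap hS p y).1 (Subsingleton.elim _ _)
    rw [← hz, Subsingleton.elim z 0, map_zero]

include hcd in
theorem nonempty_HH_iso_of_restrict {G F : X.Modules} (hG : Coh.IsCoh G) (hF : Coh.IsCoh F) (f : G ⟶ F)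
    (U : X.Opens) (hU : (U : Set X) = (Set.range ι₀)ᶜ) [IsIso ((Scheme.Modules.restrictFunctor U.ι).map f)]
    (i : ℕ) (hi : k + 2 ≤ i) : Nonempty (Coh.HH X G i ≃+ Coh.HH X F i) := by
  obtain ⟨j, rfl⟩ : ∃ j, i = j + 1 := ⟨i - 1, by omega⟩
  obtain ⟨hk, hc⟩ := (Groth.L16.CohGab.isIso_restrict_iff f U).1 inferInstance
  rw [hU, compl_compl] at hk hc
  haveI := hF.1
  haveI := hG.1
  have cohK : Coh.IsCoh (kernel f) := Groth.L16.CohSupport.isCoh_kernel hG f
  haveI : Coh.IsQCoh (cokernel f) := isQCoh_cokernel f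
  have cohC : Coh.IsCoh (cokernel f) := by
    haveI : Epi (Abelian.image.ι (cokernel.π f)) :=
      epi_of_epi_fac (f := Abelian.factorThruImage (cokernel.π f)) (h := cokernel.π f) (Abelian.image.fac _)
    haveI : IsIso (Abelian.image.ι (cokernel.π f)) := isIso_of_mono_of_epi _
    exact Groth.L16.CohSupport.isCoh_of_iso (asIso (Abelian.image.ι (cokernel.π f)))
      (Groth.L16.CohSupport.isCoh_image hF (cokernel.π f))
  have vK := subsingleton_of_filt ι₀ k hcd (filt cohK) hk
  have vC := subsingleton_of_filt ι₀ k hcd (filt cohC) hc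
  have h1 := shortExact_kernel_image f
  have h2 := shortExact_image_cokernel f
  have b1 : Function.Bijective (Groth.L16.CohLinear.hmap (Abelian.factorThruImage f) (j + 1)) := by
    haveI := vK (j + 1) (by omega)
    haveI := vK (j + 1 + 1) (by omega)
    refine ⟨(injective_iff_map_eq_zero _).2 fun y hy => ?_, fun y => ?_⟩
    · obtain ⟨z, hz⟩ := (Groth.L16.CohLinear.exact_hmap_hmap h1 (j + 1) y).1 hy
      rw [← hz, Subsingleton.elim z 0, map_zero]
    · exact (Groth.L16.CohLinear.exact_hmap_delta h1 (j + 1) y).1 (Subsingleton.elim _ _)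
  have b2 : Function.Bijective (Groth.L16.CohLinear.hmap (Abelian.image.ι f) (j + 1)) := by
    haveI := vC j (by omega)
    haveI := vC (j + 1) (by omega)
    refine ⟨(injective_iff_map_eq_zero _).2 fun y hy => ?_, fun y => ?_⟩
    · obtain ⟨z, hz⟩ := (Groth.L16.CohLinear.exact_delta_hmap h2 j y).1 hy
      rw [← hz, Subsingleton.elim z 0, map_zero]
    · exact (Groth.L16.CohLinear.exact_hmap_hmap h2 (j + 1) y).1 (Subsingleton.elim _ _)
  exact ⟨((LinearEquiv.ofBijective _ b1).trans (LinearEquiv.ofBijective _ b2)).toAddEquiv⟩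

end Groth.L16.CdSupport
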